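import Mathlib.AlgebraicGeometry.Morphisms.Etale
import Mathlib.CategoryTheory.Comma.Over.Pullback

/-!
# The Néron mapping property in terms of plain morphisms
-/

set_option autoImplicit false

noncomputable section

universe u

open CategoryTheory Limits AlgebraicGeometry

namespace Groth.Agent.NeronHD

variable {S T : Scheme.{u}}

/-- Every morphism over `S` from the part over `U` of a smooth `T`-scheme to `N` extends uniquely. -/
def NMP (p : T ⟶ S) (U : T.Opens) {N : Scheme.{u}} (h : N ⟶ S) : Prop :=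
  ∀ ⦃Z : Scheme.{u}⦄ (z : Z ⟶ T), Smooth z → ∀ ⦃W : Scheme.{u}⦄ (j : W ⟶ Z) [IsOpenImmersion j],
    j.opensRange = z ⁻¹ᵁ U → ∀ φ : W ⟶ N, φ ≫ h = j ≫ z ≫ p → ∃! g : Z ⟶ N, g ≫ h = z ≫ p ∧ j ≫ g = φ

lemma range_eq {Z W : Scheme.{u}} (z : Z ⟶ T) (U : T.Opens) (j : W ⟶ Z) [IsOpenImmersion j]
    (hj : j.opensRange = z ⁻¹ᵁ U) : Set.range (pullback.fst z U.ι) = Set.range j := by
  rw [← Scheme.Hom.coe_opensRange, ← Scheme.Hom.coe_opensRange]
  congr 1
  rw [hj, Scheme.Hom.opensRange_pullbackFst, Scheme.Opens.opensRange_ι]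

lemma NMP.eq {p : T ⟶ S} {U : T.Opens} {N : Scheme.{u}} {h : N ⟶ S} (hN : NMP p U h)
    {Z : Scheme.{u}} (z : Z ⟶ T) (hz : Smooth z) {W : Scheme.{u}} (j : W ⟶ Z) [IsOpenImmersion j]
    (hj : j.opensRange = z ⁻¹ᵁ U) {g g' : Z ⟶ N} (hg : g ≫ h = z ≫ p) (hg' : g' ≫ h = z ≫ p)
    (e : j ≫ g = j ≫ g') : g = g' :=
  (hN z hz j hj (j ≫ g) (by rw [Category.assoc, hg])).unique ⟨hg, rfl⟩ ⟨hg', e.symm⟩

theorem nmp_of_bijective_pullback (p : T ⟶ S) (U : T.Opens) (N : Over S)
    (hN : ∀ Z : Over T, Smooth Z.hom →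
      Function.Bijective (fun g : Z ⟶ (Over.pullback p).obj N => (Over.pullback U.ι).map g)) :
    NMP p U N.hom := by
  intro Z z hz W j _ hj φ hφ
  let e := IsOpenImmersion.isoOfRangeEq (pullback.fst z U.ι) j (range_eq z U j hj)
  have he : e.hom ≫ j = pullback.fst z U.ι := IsOpenImmersion.isoOfRangeEq_hom_fac _ _ _
  let ψ₀ : pullback z U.ι ⟶ pullback N.hom p := pullback.lift (e.hom ≫ φ) (pullback.fst z U.ι ≫ z)
    (by rw [Category.assoc, hφ, ← Category.assoc, he, Category.assoc])
  let ψ : (Over.pullback U.ι).obj (Over.mk z) ⟶ (Over.pullback U.ι).obj ((Over.pullback p).obj N) :=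
    Over.homMk (pullback.lift ψ₀ (pullback.snd z U.ι) (by
      show ψ₀ ≫ pullback.snd N.hom p = _
      rw [pullback.lift_snd]; exact pullback.condition)) (pullback.lift_snd _ _ _)
  obtain ⟨G, hG⟩ := (hN (Over.mk z) hz).2 ψ
  have hG' : pullback.fst z U.ι ≫ G.left ≫ pullback.fst N.hom p = e.hom ≫ φ := by
    have h1 := congrArg (fun q => q.left ≫ pullback.fst _ _ ≫ pullback.fst N.hom p) hG
    simp only [Over.pullback, Over.homMk_left, ψ, ψ₀, pullback.lift_fst_assoc, pullback.lift_fst] at h1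
    simpa using h1
  refine ⟨G.left ≫ pullback.fst N.hom p, ⟨?_, ?_⟩, fun g ⟨hg, hgj⟩ => ?_⟩
  · rw [Category.assoc, pullback.condition, ← Category.assoc]
    exact congrArg (· ≫ p) (Over.w G)
  · rw [← cancel_epi e.hom, ← Category.assoc, he]; exact hG'
  · let G' : Over.mk z ⟶ (Over.pullback p).obj N := Over.homMk (pullback.lift g z hg) (pullback.lift_snd _ _ _)
    have : G' = G := (hN (Over.mk z) hz).1 (by
      refine Over.OverMorphism.ext (pullback.hom_ext (pullback.hom_ext ?_ ?_) ?_)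
      · show (pullback.lift (pullback.fst _ _ ≫ G'.left) _ _ ≫ pullback.fst _ _) ≫ pullback.fst N.hom p =
          (pullback.lift (pullback.fst _ _ ≫ G.left) _ _ ≫ pullback.fst _ _) ≫ pullback.fst N.hom p
        rw [pullback.lift_fst, pullback.lift_fst, Category.assoc, Category.assoc]
        refine Eq.trans ?_ hG'.symm
        show pullback.fst z U.ι ≫ pullback.lift g z hg ≫ pullback.fst N.hom p = _
        rw [pullback.lift_fst, ← hgj, ← Category.assoc e.hom, he]
      · show (pullback.lift (pullback.fst _ _ ≫ G'.left) _ _ ≫ pullback.fst _ _) ≫ pullback.snd N.hom p =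
          (pullback.lift (pullback.fst _ _ ≫ G.left) _ _ ≫ pullback.fst _ _) ≫ pullback.snd N.hom p
        rw [pullback.lift_fst, pullback.lift_fst, Category.assoc, Category.assoc]
        exact congrArg (_ ≫ ·) ((Over.w G').trans (Over.w G).symm)
      · show pullback.lift (pullback.fst _ _ ≫ G'.left) _ _ ≫ pullback.snd _ _ =
          pullback.lift (pullback.fst _ _ ≫ G.left) _ _ ≫ pullback.snd _ _
        rw [pullback.lift_snd, pullback.lift_snd])
    rw [← this]
    exact (pullback.lift_fst _ _ _).symm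

theorem nmp_of_bijective (U : S.Opens) (N : Over S)
    (hN : ∀ Z : Over S, Smooth Z.hom → Function.Bijective (fun g : Z ⟶ N => (Over.pullback U.ι).map g)) :
    NMP (𝟙 S) U N.hom := by
  intro Z z hz W j _ hj φ hφ
  rw [Category.comp_id] at hφ ⊢
  let e := IsOpenImmersion.isoOfRangeEq (pullback.fst z U.ι) j (range_eq z U j hj)
  have he : e.hom ≫ j = pullback.fst z U.ι := IsOpenImmersion.isoOfRangeEq_hom_fac _ _ _
  let ψ : (Over.pullback U.ι).obj (Over.mk z) ⟶ (Over.pullback U.ι).obj N :=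
    Over.homMk (pullback.lift (e.hom ≫ φ) (pullback.snd z U.ι) (by
      rw [Category.assoc, hφ, ← Category.assoc, he]; exact pullback.condition)) (pullback.lift_snd _ _ _)
  obtain ⟨G, hG⟩ := (hN (Over.mk z) hz).2 ψ
  have hG' : pullback.fst z U.ι ≫ G.left = e.hom ≫ φ := by
    have h1 := congrArg (fun q => q.left ≫ pullback.fst N.hom U.ι) hG
    simp only [Over.pullback, Over.homMk_left, ψ, pullback.lift_fst] at h1
    simpa using h1
  refine ⟨G.left, ⟨Over.w G, ?_⟩, fun g ⟨hg, hgj⟩ => ?_⟩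
  · rw [← cancel_epi e.hom, ← Category.assoc, he]; exact hG'
  · let G' : Over.mk z ⟶ N := Over.homMk g hg
    have : G' = G := (hN (Over.mk z) hz).1 (by
      refine Over.OverMorphism.ext (pullback.hom_ext ?_ ?_)
      · show pullback.lift (pullback.fst _ _ ≫ G'.left) _ _ ≫ pullback.fst _ _ =
          pullback.lift (pullback.fst _ _ ≫ G.left) _ _ ≫ pullback.fst _ _
        rw [pullback.lift_fst, pullback.lift_fst]
        refine Eq.trans ?_ hG'.symm
        show pullback.fst z U.ι ≫ g = _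
        rw [← hgj, ← Category.assoc, he]
      · show pullback.lift (pullback.fst _ _ ≫ G'.left) _ _ ≫ pullback.snd _ _ =
          pullback.lift (pullback.fst _ _ ≫ G.left) _ _ ≫ pullback.snd _ _
        rw [pullback.lift_snd, pullback.lift_snd])
    exact congrArg CommaMorphism.left this

theorem bijective_of_nmp (U : S.Opens) (N : Over S) (hN : NMP (𝟙 S) U N.hom) (Z : Over S) (hz : Smooth Z.hom) :
    Function.Bijective (fun g : Z ⟶ N => (Over.pullback U.ι).map g) := by
  let j := pullback.fst Z.hom U.ι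
  have hj : j.opensRange = Z.hom ⁻¹ᵁ U := by rw [Scheme.Hom.opensRange_pullbackFst, Scheme.Opens.opensRange_ι]
  refine ⟨fun g g' h => ?_, fun ψ => ?_⟩
  · have h' : j ≫ g.left = j ≫ g'.left := by
      have h1 := congrArg (fun q => q.left ≫ pullback.fst N.hom U.ι) h
      simp only [Over.pullback, Over.homMk_left, pullback.lift_fst] at h1
      exact h1
    exact Over.OverMorphism.ext (hN.eq Z.hom hz j hj (by rw [Category.comp_id]; exact Over.w g)
      (by rw [Category.comp_id]; exact Over.w g') h')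
  · obtain ⟨g, ⟨hg, hgj⟩, -⟩ := hN Z.hom hz j hj (ψ.left ≫ pullback.fst N.hom U.ι) (by
      rw [Category.assoc, pullback.condition, ← Category.assoc, Category.comp_id, pullback.condition]
      exact congrArg (· ≫ U.ι) (Over.w ψ))
    rw [Category.comp_id] at hg
    refine ⟨Over.homMk g hg, Over.OverMorphism.ext (pullback.hom_ext ?_ ?_)⟩
    · show pullback.lift (pullback.fst _ _ ≫ g) _ _ ≫ pullback.fst _ _ = _
      rw [pullback.lift_fst]; exact hgj
    · show pullback.lift (pullback.fst _ _ ≫ g) _ _ ≫ pullback.snd _ _ = _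
      rw [pullback.lift_snd]; exact (Over.w ψ).symm

end Groth.Agent.NeronHD
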